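import Cfsg.Agent.CenterIndexSq.Main
import Cfsg.Agent.Fus.EssentialOmit

/-!
A saturated system with trivial core, odd `p`, over a nontrivial `p`-group whose commutators lie in a
central subgroup `⟨c⟩` of order `p`: the centre is `⟨c⟩`.
-/

set_option autoImplicit false

namespace CfsgLib.Fus.DerivedPrime

open CfsgLib.Fus CfsgLib.Fusion.Alperin Cfsg.FusionSystem CfsgLib.CenterIndexSq
open scoped commutatorElement

variable {Ω : Type*} [Group Ω] {S : Subgroup Ω} [Finite S] {p : ℕ} [hp : Fact p.Prime]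
  {F : Cfsg.FusionSystem S}

/-- Two opposite elementary groups of transvections of order at least `p ^ 2` do not fit an essential subgroup. -/
theorem card_transvection_le (hS : IsPGroup p S) (hF : F.IsSaturated p) {E : Subgroup Ω}
    (hE : F.IsEssential p E) (hcom : ∀ a b : E, a * b = b * a) {c : E} (hcp : c ^ p = 1)
    {T₀ : Subgroup (MulAut E)} (hT₀ : T₀ ≤ Cfsg.autInducedBy S E)
    (hfix : ∀ u ∈ T₀, u c = c)
    (hshift : ∀ u ∈ T₀, ∀ k, k⁻¹ * u k ∈ Subgroup.zpowers c) :
    Nat.card T₀ ≤ p := by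
  classical
  haveI : Finite E := finite_of_le hE.1.1
  haveI : Finite (MulAut E) := finite_mulAut E
  by_contra hlt
  obtain ⟨H, -, ⟨g, hg, hgH⟩, hH, -⟩ := EssentialOmit.exists_TI hS hF hE
  have hT : Cfsg.autInducedBy S E ≤ F.autGroup E := autInducedBy_le_autGroup F hE.1.1
  have hinn : ∀ {u : MulAut E}, u ∈ Cfsg.Inn E → u = 1 := by
    rintro _ ⟨x, rfl⟩
    refine MulEquiv.ext fun k => ?_
    rw [MulAut.conj_apply, hcom x k, mul_inv_cancel_right]
    rfl
  -- some nontrivial element of `Aut_S(E)` fixes a given point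
  have hex : ∀ y : E, ∃ u ∈ T₀, u ≠ 1 ∧ u y = y := by
    intro y
    by_contra hne
    push Not at hne
    refine hlt (le_trans ?_ (Nat.le_of_dvd hp.out.pos (show Nat.card (Subgroup.zpowers c) ∣ p by
      rw [Nat.card_zpowers]; exact orderOf_dvd_of_pow_eq_one hcp)))
    refine Nat.card_le_card_of_injective
      (fun u : T₀ => (⟨_, hshift u u.2 y⟩ : Subgroup.zpowers c)) fun u v huv => ?_
    have huv' : (u : MulAut E) y = (v : MulAut E) y := mul_left_cancel (congrArg Subtype.val huv)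
    by_contra hne'
    refine hne ((v : MulAut E)⁻¹ * u) (mul_mem (inv_mem v.2) u.2)
      (fun h1 => hne' (Subtype.ext (inv_mul_eq_one.1 h1).symm)) ?_
    rw [MulAut.mul_apply, huv', MulAut.inv_def, MulEquiv.symm_apply_apply]
  set y := g c with hy
  obtain ⟨u, hu, hu1, huy⟩ := hex y
  obtain ⟨w, hw, hw1, hwc⟩ := hex (g⁻¹ c)
  set v := g * w * g⁻¹ with hv
  have hvc : v c = c := by
    rw [hv, MulAut.mul_apply, MulAut.mul_apply, hwc, MulAut.inv_def, MulEquiv.apply_symm_apply]
  have hvy : v y = y := by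
    rw [hv, hy, MulAut.mul_apply, MulAut.mul_apply, MulAut.inv_def, MulEquiv.symm_apply_apply,
      hfix w hw]
  have hvshift : ∀ k, ∃ i : ℤ, v k = k * y ^ i := by
    intro k
    obtain ⟨i, hi⟩ := hshift w hw (g⁻¹ k)
    have e : w (g⁻¹ k) = g⁻¹ k * c ^ i := by
      show w (g⁻¹ k) = g⁻¹ k * (fun n : ℤ => c ^ n) i
      rw [hi, mul_inv_cancel_left]
    refine ⟨i, ?_⟩
    rw [hv, MulAut.mul_apply, MulAut.mul_apply, e, map_mul, map_zpow, MulAut.inv_def,
      MulEquiv.apply_symm_apply]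
  have hushift : ∀ k, ∃ i : ℤ, u k = k * c ^ i := fun k => by
    obtain ⟨i, hi⟩ := hshift u hu k
    exact ⟨i, by show u k = k * (fun n : ℤ => c ^ n) i; rw [hi, mul_inv_cancel_left]⟩
  have huv : Commute u v := MulEquiv.ext fun k => by
    obtain ⟨i, hi⟩ := hushift k
    obtain ⟨j, hj⟩ := hvshift k
    show u (v k) = v (u k)
    rw [hi, hj, map_mul, map_mul, map_zpow, map_zpow, huy, hvc, hi, hj, mul_assoc, mul_assoc,
      hcom (c ^ i)]
  -- `u` and `v` generate a `p`-group
  have huH : ∀ b ∈ F.autGroup E, ∀ x ∈ Cfsg.autInducedBy S E, x ≠ 1 →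
      b * x * b⁻¹ ∈ Cfsg.autInducedBy S E → b ∈ H := fun b hb x hx hx1 h =>
    hH b hb x hx (fun hi => hx1 (hinn hi)) h
  let U := Subgroup.zpowers u
  let V := Subgroup.zpowers v
  have hU : IsPGroup p U := (isPGroup_autInducedBy hS E).to_le (Subgroup.zpowers_le.2 (hT₀ hu))
  have hV : IsPGroup p V := by
    have h1 : IsPGroup p (Subgroup.zpowers w) :=
      (isPGroup_autInducedBy hS E).to_le (Subgroup.zpowers_le.2 (hT₀ hw))
    have h2 := h1.map (MulAut.conj g).toMonoidHom
    rwa [MonoidHom.map_zpowers] at h2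
  have hUV : U ≤ Subgroup.normalizer (V : Set (MulAut E)) := by
    rw [Subgroup.zpowers_le]
    refine Subgroup.centralizer_le_normalizer _ (Subgroup.mem_centralizer_iff.2 ?_)
    rintro _ ⟨i, rfl⟩
    exact (huv.zpow_right i).symm
  have hle : U ⊔ V ≤ F.autGroup E := sup_le (Subgroup.zpowers_le.2 (hT (hT₀ hu)))
    (Subgroup.zpowers_le.2 (mul_mem (mul_mem hg (hT (hT₀ hw))) (inv_mem hg)))
  obtain ⟨b, hb, hbX⟩ := exists_conj_into_autS (fullyNormalized_props hS hF hE.2.1).1 hle
    (hU.to_sup_of_normal_right' hV hUV)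
  have h1 := huH b hb u (hT₀ hu) hu1 (hbX u (Subgroup.mem_sup_left (Subgroup.mem_zpowers u)))
  have h2 : b * g ∈ H := by
    refine huH _ (mul_mem hb hg) w (hT₀ hw) hw1 ?_
    have := hbX v (Subgroup.mem_sup_right (Subgroup.mem_zpowers v))
    simpa [hv, mul_assoc] using this
  exact hgH (by simpa using H.mul_mem (H.inv_mem h1) h2)

/-- An essential subgroup is radical. -/
theorem isRadical_of_essential (hS : IsPGroup p S) (hF : F.IsSaturated p) {E : Subgroup Ω}
    (hE : F.IsEssential p E) : F.IsRadical p E := by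
  obtain ⟨hc, hfn, hn, Y, hY⟩ := hE
  haveI : Finite E := finite_of_le hc.1
  haveI : Finite (MulAut E) := finite_mulAut E
  have h := inn_le_pCore_le hS (fullyNormalized_props hS hF hfn).1
  refine ⟨hc.1, le_antisymm ?_ h.1⟩
  set I := (Cfsg.Inn E).subgroupOf (F.autGroup E)
  set Q := (Cfsg.pCore p (F.autGroup E)).map (QuotientGroup.mk' I)
  have hQn : Q.Normal := (Cfsg.pCore_normal p _).map _ (QuotientGroup.mk'_surjective I)
  have hQp : IsPGroup p Q := (CharP.isPGroup_pCore (p := p) (G := F.autGroup E)).map _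
  obtain ⟨P, -, hloc⟩ := LocalCharP.exists_sylow_le hY
  have hQ : Q = ⊥ := by
    by_contra hne
    have hQP : Q ≤ (P : Subgroup (F.autGroup E ⧸ I)) :=
      (CharP.le_pCore hQn hQp).trans (CharP.pCore_le_sylow P)
    have h := hloc Q hQP hne
    rw [Subgroup.normalizer_eq_top_iff.2 hQn] at h
    exact hY.2.1 (top_le_iff.1 h)
  rintro _ ⟨a, ha, rfl⟩
  have h1 : QuotientGroup.mk' I a ∈ Q := Subgroup.mem_map_of_mem _ ha
  rw [hQ, Subgroup.mem_bot, QuotientGroup.mk'_apply, QuotientGroup.eq_one_iff] at h1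
  exact h1

/-- An element acting trivially on `⟨c⟩` and on `E ⧸ ⟨c⟩` lies in `E`, if `E` is non-abelian with commutators in `⟨c⟩`. -/
theorem mem_of_noncomm (hS : IsPGroup p S) {E : Subgroup Ω} (hc : F.IsCentric E) (hr : F.IsRadical p E)
    {c : Ω} (hcp : c ^ p = 1) (hEE : ∀ a ∈ E, ∀ b ∈ E, ⁅a, b⁆ ∈ Subgroup.zpowers c)
    {a b : E} (hab : a * b ≠ b * a) {g : Ω} (hg : g ∈ normalizerIn S E) (hgc : g * c = c * g)
    (hgE : ∀ x ∈ E, x⁻¹ * (g * x * g⁻¹) ∈ Subgroup.zpowers c) : g ∈ E := by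
  obtain ⟨m, hm⟩ := hEE a a.2 b b.2
  have hmd : ¬ (p : ℤ) ∣ m := fun hd => hab (Subtype.ext (commutatorElement_eq_one_iff_mul_comm.1
    (hm.symm.trans (CfsgLib.GenExtraspecial.zpow_eq_one_of_dvd hcp hd))))
  obtain ⟨n, hn⟩ := mem_zpowers_of_pow hcp hmd
  change c ^ m = ⁅(a : Ω), (b : Ω)⁆ at hm
  change (c ^ m) ^ n = c at hn
  have hcE : c ∈ E := by
    rw [← hn, hm]
    exact zpow_mem (mul_mem (mul_mem (mul_mem a.2 b.2) (inv_mem a.2)) (inv_mem b.2)) n
  refine mem_of_stabilizes_series hS hc hr hg 2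
    (fun i => if i = 0 then ⊥ else if i = 1 then Subgroup.zpowers c else E) (by simp) (by simp) ?_ ?_ ?_
  · intro i j hij
    have h1 : Subgroup.zpowers c ≤ E := Subgroup.zpowers_le.2 hcE
    rcases i with _ | _ | i <;> rcases j with _ | _ | j <;>
      first
        | omega
        | simp [h1]
  · intro i α _ x hx
    rcases i with _ | _ | i
    · simp only [if_pos, Subgroup.mem_bot] at hx ⊢
      simp [show x = 1 from Subtype.ext hx]
    · simp only [zero_add, one_ne_zero, if_false, if_true] at hx ⊢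
      obtain ⟨l, hl⟩ := hx
      change c ^ l = (x : Ω) at hl
      have ex : x = (⁅a, b⁆ ^ n) ^ l := Subtype.ext (by
        simp only [Subgroup.coe_zpow, commutatorElement_def, Subgroup.coe_mul, Subgroup.coe_inv]
        rw [← commutatorElement_def, ← hm, hn, hl])
      rw [ex, map_zpow, map_zpow, map_commutatorElement]
      simp only [Subgroup.coe_zpow, commutatorElement_def, Subgroup.coe_mul, Subgroup.coe_inv]
      exact zpow_mem (zpow_mem (hEE _ (α a).2 _ (α b).2) n) l
    · simp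
  · intro i hi x hxE hx
    rcases i with _ | _ | i
    · simp only [zero_add, one_ne_zero, if_false, if_true] at hx
      obtain ⟨l, rfl⟩ := hx
      simp only [if_true, Subgroup.mem_bot]
      rw [((show Commute g c from hgc).zpow_right l).eq, mul_inv_cancel_right, inv_mul_cancel]
    · simp only [zero_add, one_ne_zero, if_false, if_true]
      exact hgE x hxE
    · omega

/-- The centre is the group of commutators. -/
theorem centre_le_zpowers (hS : IsPGroup p S) (hF : F.IsSaturated p) (hp2 : p ≠ 2) (hS1 : S ≠ ⊥)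
    (hcore : F.core = ⊥) {c : Ω} (hcc : c ∈ centre S) (hc1 : c ≠ 1) (hcp : c ^ p = 1)
    (hcomm : ∀ g ∈ S, ∀ x ∈ S, ⁅g, x⁆ ∈ Subgroup.zpowers c) :
    centre S ≤ Subgroup.zpowers c := by
  classical
  obtain ⟨E, hE, hne⟩ : ∃ E, IsAlperinSubgroup F p E ∧ E ≠ S := by
    by_contra hno
    push Not at hno
    have h := le_core ((isNormal_top_iff hS hF).2 hno)
    rw [hcore, le_bot_iff] at h
    exact hS1 h
  have hES := hE.centric.1
  haveI : Finite E := finite_of_le hES
  have hEe : F.IsEssential p E := hE.top_or_essential.resolve_left hne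
  have hcE' : centre S ≤ E := fun z hz => centralizerIn_le_of_centric hE.centric
    ⟨(mem_centre.1 hz).1, fun x hx => (mem_centre.1 hz).2 x (hES hx)⟩
  have hcE : c ∈ E := hcE' hcc
  have hnorm : ∀ g ∈ S, g ∈ normalizerIn S E := by
    intro g hg
    refine ⟨hg, Subgroup.mem_normalizer_iff.2 fun x => ⟨fun hx => ?_, fun hx => ?_⟩⟩
    · have := E.mul_mem ((Subgroup.zpowers_le.2 hcE) (hcomm g hg x (hES hx))) hx
      simpa [commutatorElement_def] using this
    · have h := E.mul_mem ((Subgroup.zpowers_le.2 hcE) (hcomm g⁻¹ (S.inv_mem hg) _ (hES hx))) hx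
      simpa [commutatorElement_def, mul_assoc] using h
  -- `E` is abelian
  have hEc : ∀ a b : E, a * b = b * a := by
    intro a b
    by_contra hab
    refine hne (le_antisymm hES fun g hg => ?_)
    refine mem_of_noncomm hS hE.centric hE.radical hcp (fun a ha b hb => hcomm a (hES ha) b (hES hb)) hab
      (hnorm g hg) ((mem_centre.1 hcc).2 g hg) fun x hx => ?_
    rw [show x⁻¹ * (g * x * g⁻¹) = ⁅x⁻¹, g⁆ by rw [commutatorElement_def]; group]
    exact hcomm _ (S.inv_mem (hES hx)) g hg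
  -- `E` has index `p`
  have hT : Nat.card (Cfsg.autInducedBy S E) ≤ p := by
    refine card_transvection_le hS hF hEe hEc (c := ⟨c, hcE⟩) (Subtype.ext hcp) le_rfl (fun u hu => ?_) fun u hu k => ?_
    · obtain ⟨x, hx, hxu⟩ := mem_autInducedBy_iff.1 hu
      refine Subtype.ext ?_
      rw [hxu, (mem_centre.1 hcc).2 x hx, mul_inv_cancel_right]
    · obtain ⟨x, hx, hxu⟩ := mem_autInducedBy_iff.1 hu
      obtain ⟨i, hi⟩ := hcomm _ (S.inv_mem (hES k.2)) x hx
      refine ⟨i, Subtype.ext ?_⟩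
      show c ^ i = (k : Ω)⁻¹ * ((u k : E) : Ω)
      rw [hxu, show c ^ i = _ from hi, commutatorElement_def]
      group
  let f : S →* Cfsg.autInducedBy S E :=
    { toFun := fun x => ⟨conjAut (hnorm x x.2).2, conjAut_mem_autInducedBy _ x.2⟩
      map_one' := Subtype.ext (MulEquiv.ext fun k => Subtype.ext (by simp [conjAut_apply]))
      map_mul' := fun x y => Subtype.ext (MulEquiv.ext fun k => Subtype.ext (by
        simp only [Subgroup.coe_mul, MulAut.mul_apply, conjAut_apply]; group)) }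
  have hker : f.ker ≤ E.subgroupOf S := fun x hx => by
    refine centralizerIn_le_of_centric hE.centric ⟨x.2, fun k hk => ?_⟩
    have h : (((f x : MulAut E) ⟨k, hk⟩ : E) : Ω) = k := by rw [MonoidHom.mem_ker.1 hx]; rfl
    rw [show (((f x : MulAut E) ⟨k, hk⟩ : E) : Ω) = (x : Ω) * k * (x : Ω)⁻¹ from rfl,
      mul_inv_eq_iff_eq_mul] at h
    exact h.symm
  have hidx : (E.subgroupOf S).index ≤ p := by
    refine le_trans (Nat.le_of_dvd (Nat.pos_of_ne_zero Subgroup.index_ne_zero_of_finite)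
      (Subgroup.index_dvd_of_le hker)) ?_
    rw [Subgroup.index_ker]
    exact (Nat.card_le_card_of_injective _ Subtype.val_injective).trans hT
  obtain ⟨g, hg, hgE⟩ : ∃ g ∈ S, g ∉ E := by
    by_contra hall
    push Not at hall
    exact hne (le_antisymm hES hall)
  let g' : S := ⟨g, hg⟩
  -- the centre is the centralizer of `g` in `E`
  have hK : E.subgroupOf S ⊔ Subgroup.zpowers g' = ⊤ := by
    have h1 := Subgroup.relIndex_mul_index (le_sup_left : E.subgroupOf S ≤ E.subgroupOf S ⊔ Subgroup.zpowers g')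
    set K := E.subgroupOf S ⊔ Subgroup.zpowers g'
    obtain ⟨a, ha⟩ := hS.index (E.subgroupOf S)
    rw [ha] at h1 hidx
    have hr : (E.subgroupOf S).relIndex K ≠ 1 := fun h => hgE
      (Subgroup.relIndex_eq_one.1 h (Subgroup.mem_sup_right (Subgroup.mem_zpowers g')))
    obtain ⟨i, -, hi⟩ := (Nat.dvd_prime_pow hp.out).1 (Dvd.intro _ h1)
    have ha1 : a ≤ 1 := (Nat.pow_le_pow_iff_right hp.out.one_lt).1 (hidx.trans (pow_one p).ge)
    obtain rfl : a = 1 := by
      rcases Nat.eq_zero_or_pos a with rfl | h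
      · rw [pow_zero] at h1
        exact absurd (Nat.eq_one_of_mul_eq_one_right h1) hr
      · omega
    rw [pow_one] at h1
    rcases (Nat.dvd_prime hp.out).1 (Dvd.intro _ h1) with h2 | h2
    · exact absurd h2 hr
    · rw [h2] at h1
      exact Subgroup.index_eq_one.1 (Nat.eq_of_mul_eq_mul_left hp.out.pos (h1.trans (mul_one p).symm))
  let d : E.subgroupOf S →* Subgroup.zpowers c :=
    { toFun := fun k => ⟨⁅g, ((k : S) : Ω)⁆, hcomm g hg _ (k : S).2⟩
      map_one' := Subtype.ext (commutatorElement_one_right g)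
      map_mul' := fun a b => Subtype.ext (by
        show ⁅g, ((a : S) : Ω) * ((b : S) : Ω)⁆ = ⁅g, ((a : S) : Ω)⁆ * ⁅g, ((b : S) : Ω)⁆
        obtain ⟨i, hi⟩ := hcomm g hg _ (b : S).2
        have h2 : Commute ((a : S) : Ω) ⁅g, ((b : S) : Ω)⁆ := by
          rw [← hi]; exact Commute.zpow_right ((mem_centre.1 hcc).2 _ (a : S).2) i
        calc ⁅g, ((a : S) : Ω) * ((b : S) : Ω)⁆
            = ⁅g, ((a : S) : Ω)⁆ * (((a : S) : Ω) * ⁅g, ((b : S) : Ω)⁆ * ((a : S) : Ω)⁻¹) := by
              simp only [commutatorElement_def]; group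
          _ = _ := by rw [h2.eq, mul_inv_cancel_right]) }
  have hdker : d.ker.map (E.subgroupOf S).subtype ≤ Subgroup.center S := by
    rintro _ ⟨k, hk, rfl⟩
    have hkg : g * ((k : S) : Ω) = ((k : S) : Ω) * g :=
      commutatorElement_eq_one_iff_mul_comm.1 (congrArg Subtype.val hk)
    refine Subgroup.mem_center_iff.2 fun x => ?_
    have hle : (⊤ : Subgroup S) ≤ Subgroup.centralizer {(k : S)} := by
      rw [← hK]
      refine sup_le (fun w hw => Subgroup.mem_centralizer_singleton_iff.2 ?_)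
        (Subgroup.zpowers_le.2 (Subgroup.mem_centralizer_singleton_iff.2 (Subtype.ext hkg)))
      have e := congrArg (fun t : E => (t : Ω)) (hEc ⟨(w : Ω), hw⟩ ⟨((k : S) : Ω), k.2⟩)
      exact Subtype.ext e
    exact Subgroup.mem_centralizer_singleton_iff.1 (hle (Subgroup.mem_top x))
  have hZ : (Subgroup.center S).index ≤ p ^ 2 := by
    refine le_trans (Nat.le_of_dvd (Nat.pos_of_ne_zero Subgroup.index_ne_zero_of_finite)
      (Subgroup.index_dvd_of_le hdker)) ?_
    rw [Subgroup.index_map_subtype, pow_two]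
    refine Nat.mul_le_mul ?_ hidx
    rw [Subgroup.index_ker]
    haveI : Finite (Subgroup.zpowers c) := finite_of_le (Subgroup.zpowers_le.2 (mem_centre.1 hcc).1)
    refine (Nat.card_le_card_of_injective _ Subtype.val_injective).trans ?_
    rw [Nat.card_zpowers]
    exact Nat.le_of_dvd hp.out.pos (orderOf_dvd_of_pow_eq_one hcp)
  have hmax : ∀ R, IsAlperinSubgroup F p R → R ≠ S → Maximal S F p R := fun R hR hRS =>
    maximal_of_alperin hS hZ hR hRS
  obtain ⟨K, hKc, hKinv, hKdec⟩ :=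
    exists_common_odd hS hF hp2 hmax (hmax E hE hne) hcc hc1 hcp hcomm
  have hK1 : K = ⊥ := le_bot_iff.1 (hcore ▸ le_core (isNormal_criterion hS hF
    (fun k hk => (mem_centre.1 (hKc hk)).1) (fun R hR => by
      by_cases hRS : R = S
      · rw [hRS]; exact fun k hk => (mem_centre.1 (hKc hk)).1
      · exact hKc.trans (hmax R hR hRS).centre_le) hKinv))
  intro z hz
  obtain ⟨k, hk, i, rfl⟩ := hKdec z hz
  rw [hK1, Subgroup.mem_bot] at hk
  rw [hk, one_mul]
  exact zpow_mem (Subgroup.mem_zpowers c) i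

end CfsgLib.Fus.DerivedPrime
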